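import Groth.Agent.ResProp.EF.K743.Iface2
import Mathlib.RingTheory.Localization.Away.Basic
import Mathlib.Algebra.MvPolynomial.CommRing
import Mathlib.LinearAlgebra.Matrix.MvPolynomial

/-!
# G1B-F5: the group `GL_r₁ × GL_r₂` acts on the frame ring
-/

set_option autoImplicit false

universe u

open Groth.Agent.Grpsch.AffGrpd Groth.Agent.ResProp.EF.K743

namespace Groth.Agent.ResProp.EF.K655

section Aux

theorem aux {R : Type*} [CommRing R] {m r₁ r₂ : ℕ} (GI : Fin r₂ → R) (L2 : Fin r₂ → Fin r₂ → R)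
    (M0 : (Fin m → Fin r₁) → Fin r₂ → R) (LI : Fin r₁ → Fin r₁ → R) (GG : Fin r₁ → Fin r₁ → R)
    (κ : Fin m → Fin r₁) :
    ∑ b'', ∑ κ'' : Fin m → Fin r₁, (∑ b', GI b' * L2 b' b'') * M0 κ'' b'' * ∏ i, ∑ k, LI (κ'' i) k * GG k (κ i) =
    ∑ b', ∑ κ' : Fin m → Fin r₁, GI b' * (∑ b'', ∑ κ'' : Fin m → Fin r₁, L2 b' b'' * M0 κ'' b'' *
      ∏ i, LI (κ'' i) (κ' i)) * ∏ i, GG (κ' i) (κ i) := by
  have h : ∀ κ'' : Fin m → Fin r₁, ∏ i, ∑ k, LI (κ'' i) k * GG k (κ i) =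
      ∑ κ' : Fin m → Fin r₁, (∏ i, LI (κ'' i) (κ' i)) * ∏ i, GG (κ' i) (κ i) := by
    intro κ''
    rw [Finset.prod_univ_sum, Fintype.piFinset_univ]
    exact Finset.sum_congr rfl fun κ' _ => Finset.prod_mul_distrib
  calc _ = ∑ b'', ∑ κ'' : Fin m → Fin r₁, ∑ b', ∑ κ' : Fin m → Fin r₁, GI b' * L2 b' b'' * M0 κ'' b'' *
        ((∏ i, LI (κ'' i) (κ' i)) * ∏ i, GG (κ' i) (κ i)) := by
        refine Finset.sum_congr rfl fun b'' _ => Finset.sum_congr rfl fun κ'' _ => ?_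
        rw [h, Finset.sum_mul, Finset.sum_mul]
        refine Finset.sum_congr rfl fun b' _ => ?_
        rw [Finset.mul_sum]
    _ = ∑ b', ∑ κ' : Fin m → Fin r₁, ∑ b'', ∑ κ'' : Fin m → Fin r₁, GI b' * L2 b' b'' * M0 κ'' b'' *
        ((∏ i, LI (κ'' i) (κ' i)) * ∏ i, GG (κ' i) (κ i)) := by
        rw [Finset.sum_congr rfl fun _ _ => Finset.sum_comm, Finset.sum_comm]
        refine Finset.sum_congr rfl fun b' _ => ?_
        rw [Finset.sum_congr rfl fun _ _ => Finset.sum_comm, Finset.sum_comm]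
    _ = _ := by
        refine Finset.sum_congr rfl fun b' _ => Finset.sum_congr rfl fun κ' _ => ?_
        rw [Finset.mul_sum, Finset.sum_mul]
        refine Finset.sum_congr rfl fun b'' _ => ?_
        rw [Finset.mul_sum, Finset.sum_mul]
        refine Finset.sum_congr rfl fun κ'' _ => ?_
        ring

end Aux

section Univ

variable (r₁ r₂ : ℕ)

/-- the index set of the matrix entries -/
abbrev Idx := (Fin r₁ × Fin r₁) ⊕ (Fin r₂ × Fin r₂)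

variable (R : Type u) [CommRing R]

/-- the polynomial ring -/
abbrev MP := MvPolynomial (Idx r₁ r₂) R

/-- first generic matrix -/
noncomputable def X1 : Matrix (Fin r₁) (Fin r₁) (MP r₁ r₂ R) :=
  Matrix.of fun i j => MvPolynomial.X (Sum.inl (i, j))

/-- second generic matrix -/
noncomputable def X2 : Matrix (Fin r₂) (Fin r₂) (MP r₁ r₂ R) :=
  Matrix.of fun i j => MvPolynomial.X (Sum.inr (i, j))

/-- the product of the determinants -/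
noncomputable def dl : MP r₁ r₂ R := (X1 r₁ r₂ R).det * (X2 r₁ r₂ R).det

/-- the ring `R ⊗ O(GL_r₁ × GL_r₂)` -/
abbrev B := Localization.Away (dl r₁ r₂ R)

/-- constants -/
noncomputable def cst : R →+* B r₁ r₂ R := (algebraMap (MP r₁ r₂ R) (B r₁ r₂ R)).comp MvPolynomial.C

theorem isUnit_dl : IsUnit (algebraMap (MP r₁ r₂ R) (B r₁ r₂ R) (dl r₁ r₂ R)) :=
  IsLocalization.Away.algebraMap_isUnit _

theorem isUnit_det1 : IsUnit ((X1 r₁ r₂ R).map (algebraMap (MP r₁ r₂ R) (B r₁ r₂ R))).det := by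
  have h : IsUnit (algebraMap (MP r₁ r₂ R) (B r₁ r₂ R) ((X1 r₁ r₂ R).det * (X2 r₁ r₂ R).det)) := isUnit_dl r₁ r₂ R
  rw [map_mul] at h
  have h1 := isUnit_of_mul_isUnit_left h
  rwa [RingHom.map_det, RingHom.mapMatrix_apply] at h1

theorem isUnit_det2 : IsUnit ((X2 r₁ r₂ R).map (algebraMap (MP r₁ r₂ R) (B r₁ r₂ R))).det := by
  have h : IsUnit (algebraMap (MP r₁ r₂ R) (B r₁ r₂ R) ((X1 r₁ r₂ R).det * (X2 r₁ r₂ R).det)) := isUnit_dl r₁ r₂ R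
  rw [map_mul] at h
  have h1 := isUnit_of_mul_isUnit_right h
  rwa [RingHom.map_det, RingHom.mapMatrix_apply] at h1

/-- universal element of `GL_r₁` -/
noncomputable def G1 : GL (Fin r₁) (B r₁ r₂ R) := Matrix.GeneralLinearGroup.mk'' _ (isUnit_det1 r₁ r₂ R)

/-- universal element of `GL_r₂` -/
noncomputable def G2 : GL (Fin r₂) (B r₁ r₂ R) := Matrix.GeneralLinearGroup.mk'' _ (isUnit_det2 r₁ r₂ R)

theorem G1_apply (i j : Fin r₁) : (G1 r₁ r₂ R).1 i j = algebraMap (MP r₁ r₂ R) (B r₁ r₂ R) (MvPolynomial.X (Sum.inl (i, j))) := rfl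

theorem G2_apply (i j : Fin r₂) : (G2 r₁ r₂ R).1 i j = algebraMap (MP r₁ r₂ R) (B r₁ r₂ R) (MvPolynomial.X (Sum.inr (i, j))) := rfl

variable {r₁ r₂ R}
variable {T : Type u} [CommRing T] (φ : R →+* T) (g₁ : GL (Fin r₁) T) (g₂ : GL (Fin r₂) T)

/-- evaluation on polynomials -/
noncomputable def evp : MvPolynomial (Idx r₁ r₂) R →+* T :=
  MvPolynomial.eval₂Hom φ (Sum.elim (fun p => g₁.1 p.1 p.2) (fun p => g₂.1 p.1 p.2))

theorem evp_dl : evp φ g₁ g₂ (dl r₁ r₂ R) = g₁.1.det * g₂.1.det := by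
  rw [dl, map_mul, RingHom.map_det, RingHom.map_det]
  congr 2
  · ext i j
    simp [evp, X1]
  · ext i j
    simp [evp, X2]

theorem isUnit_evp_dl : IsUnit (evp φ g₁ g₂ (dl r₁ r₂ R)) := by
  rw [evp_dl]
  exact (Matrix.isUnits_det_units g₁).mul (Matrix.isUnits_det_units g₂)

/-- evaluation -/
noncomputable def ev : B r₁ r₂ R →+* T :=
  IsLocalization.Away.lift (dl r₁ r₂ R) (g := evp φ g₁ g₂) (isUnit_evp_dl φ g₁ g₂)

theorem ev_algebraMap (x : MvPolynomial (Idx r₁ r₂) R) : ev φ g₁ g₂ (algebraMap (MP r₁ r₂ R) (B r₁ r₂ R) x) = evp φ g₁ g₂ x :=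
  IsLocalization.Away.lift_eq _ _ _

theorem ev_cst (a : R) : ev φ g₁ g₂ (cst r₁ r₂ R a) = φ a := by
  rw [cst, RingHom.comp_apply, ev_algebraMap]
  simp [evp]

theorem ev_G1 : Matrix.GeneralLinearGroup.map (ev φ g₁ g₂) (G1 r₁ r₂ R) = g₁ := by
  ext i j
  change ev φ g₁ g₂ ((G1 r₁ r₂ R).1 i j) = _
  rw [G1_apply, ev_algebraMap]
  simp [evp]

theorem ev_G2 : Matrix.GeneralLinearGroup.map (ev φ g₁ g₂) (G2 r₁ r₂ R) = g₂ := by
  ext i j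
  change ev φ g₁ g₂ ((G2 r₁ r₂ R).1 i j) = _
  rw [G2_apply, ev_algebraMap]
  simp [evp]

theorem map_apply' {n : ℕ} {R S : Type u} [CommRing R] [CommRing S] (f : R →+* S) (g : GL (Fin n) R) (i j : Fin n) :
    f (g.1 i j) = (Matrix.GeneralLinearGroup.map f g).1 i j := rfl

theorem map_inv_apply {n : ℕ} {R S : Type u} [CommRing R] [CommRing S] (f : R →+* S) (g : GL (Fin n) R) (i j : Fin n) :
    f ((g⁻¹).1 i j) = ((Matrix.GeneralLinearGroup.map f g)⁻¹).1 i j := by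
  rw [map_apply', map_inv]

end Univ

section Incl

variable {r₁ r₂ : ℕ} {R S : Type u} [CommRing R] [CommRing S] (f : R →+* S)

theorem map_dl : MvPolynomial.map f (dl r₁ r₂ R) = dl r₁ r₂ S := by
  rw [dl, dl, map_mul, RingHom.map_det, RingHom.map_det]
  congr 2
  · ext i j
    simp [X1]
  · ext i j
    simp [X2]

theorem powers_le : Submonoid.powers (dl r₁ r₂ R) ≤ (Submonoid.powers (dl r₁ r₂ S)).comap (MvPolynomial.map f) := by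
  rw [Submonoid.powers_le]
  exact ⟨1, by simp [map_dl]⟩

/-- functoriality of `B` -/
noncomputable def Bmap : B r₁ r₂ R →+* B r₁ r₂ S :=
  IsLocalization.map (B r₁ r₂ S) (MvPolynomial.map f) (powers_le (r₁ := r₁) (r₂ := r₂) f)

theorem Bmap_algebraMap (x : MvPolynomial (Idx r₁ r₂) R) :
    Bmap f (algebraMap (MP r₁ r₂ R) (B r₁ r₂ R) x) = algebraMap (MP r₁ r₂ S) (B r₁ r₂ S) (MvPolynomial.map f x) :=
  IsLocalization.map_eq _ _

theorem Bmap_cst (a : R) : Bmap f (cst r₁ r₂ R a) = cst r₁ r₂ S (f a) := by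
  rw [cst, RingHom.comp_apply, Bmap_algebraMap, MvPolynomial.map_C]
  rfl

theorem Bmap_G1 : Matrix.GeneralLinearGroup.map (Bmap f) (G1 r₁ r₂ R) = G1 r₁ r₂ S := by
  ext i j
  change Bmap f ((G1 r₁ r₂ R).1 i j) = _
  rw [G1_apply, Bmap_algebraMap, MvPolynomial.map_X]
  rfl

theorem Bmap_G2 : Matrix.GeneralLinearGroup.map (Bmap f) (G2 r₁ r₂ R) = G2 r₁ r₂ S := by
  ext i j
  change Bmap f ((G2 r₁ r₂ R).1 i j) = _
  rw [G2_apply, Bmap_algebraMap, MvPolynomial.map_X]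
  rfl

theorem Bmap_injective (hf : Function.Injective f) : Function.Injective (Bmap (r₁ := r₁) (r₂ := r₂) f) := by
  rw [injective_iff_map_eq_zero]
  intro z hz
  obtain ⟨x, s, rfl⟩ := IsLocalization.exists_mk'_eq (Submonoid.powers (dl r₁ r₂ R)) z
  rw [Bmap, IsLocalization.map_mk', IsLocalization.mk'_eq_zero_iff] at hz
  obtain ⟨⟨_, k, rfl⟩, hk⟩ := hz
  rw [IsLocalization.mk'_eq_zero_iff]
  refine ⟨⟨_, k, rfl⟩, ?_⟩
  apply MvPolynomial.map_injective f hf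
  rw [map_mul, map_zero]
  simpa [map_dl] using hk

end Incl

section Main

variable {A Γ : Type u} [CommRing A] [CommRing Γ]
variable {G : RGrpd A Γ} {X : Gens G} {m : ℕ} {K : Type u} [Field K] {x : A →+* K}
variable (P : PtData G X m x) (R : LRing G x P.r₁ P.r₂)

/-- the universal action on the big ring -/
noncomputable def rhoL : R.L →+* B P.r₁ P.r₂ R.L :=
  R.lift ((cst P.r₁ P.r₂ R.L).comp R.y) ((cst P.r₁ P.r₂ R.L).comp R.γ)
    (by rw [RingHom.comp_assoc, R.hγ, RingHom.comp_assoc])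
    ((G1 P.r₁ P.r₂ R.L)⁻¹ * Matrix.GeneralLinearGroup.map (cst P.r₁ P.r₂ R.L) R.l₁)
    ((G2 P.r₁ P.r₂ R.L)⁻¹ * Matrix.GeneralLinearGroup.map (cst P.r₁ P.r₂ R.L) R.l₂)

theorem rhoL_y (a : K) : rhoL P R (R.y a) = cst P.r₁ P.r₂ R.L (R.y a) :=
  RingHom.congr_fun (R.lift_y _ _ _ _ _) a

theorem rhoL_γ (a : Γ) : rhoL P R (R.γ a) = cst P.r₁ P.r₂ R.L (R.γ a) :=
  RingHom.congr_fun (R.lift_γ _ _ _ _ _) a

theorem rhoL_l₁ : Matrix.GeneralLinearGroup.map (rhoL P R) R.l₁ =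
    (G1 P.r₁ P.r₂ R.L)⁻¹ * Matrix.GeneralLinearGroup.map (cst P.r₁ P.r₂ R.L) R.l₁ := by
  ext i j
  exact R.lift_l₁ _ _ _ _ _ i j

theorem rhoL_l₂ : Matrix.GeneralLinearGroup.map (rhoL P R) R.l₂ =
    (G2 P.r₁ P.r₂ R.L)⁻¹ * Matrix.GeneralLinearGroup.map (cst P.r₁ P.r₂ R.L) R.l₂ := by
  ext i j
  exact R.lift_l₂ _ _ _ _ _ i j

theorem rhoL_l₁_apply (i j : Fin P.r₁) : rhoL P R (R.l₁.1 i j) =
    ∑ k, ((G1 P.r₁ P.r₂ R.L)⁻¹).1 i k * cst P.r₁ P.r₂ R.L (R.l₁.1 k j) := by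
  rw [map_apply', rhoL_l₁]
  rfl

theorem rhoL_l₂_apply (i j : Fin P.r₂) : rhoL P R (R.l₂.1 i j) =
    ∑ k, ((G2 P.r₁ P.r₂ R.L)⁻¹).1 i k * cst P.r₁ P.r₂ R.L (R.l₂.1 k j) := by
  rw [map_apply', rhoL_l₂]
  rfl

theorem rhoL_l₁_inv_apply (i j : Fin P.r₁) : rhoL P R ((R.l₁⁻¹).1 i j) =
    ∑ k, cst P.r₁ P.r₂ R.L ((R.l₁⁻¹).1 i k) * (G1 P.r₁ P.r₂ R.L).1 k j := by
  rw [map_inv_apply, rhoL_l₁, mul_inv_rev, inv_inv, ← map_inv]
  rfl

theorem rhoL_Q₁ (j : Fin X.n) (a : Fin P.r₁) : rhoL P R (LRing.Q₁L P R j a) =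
    ∑ a', ((G1 P.r₁ P.r₂ R.L)⁻¹).1 a a' * cst P.r₁ P.r₂ R.L (LRing.Q₁L P R j a') := by
  simp only [LRing.Q₁L, map_sum, map_mul, rhoL_γ, rhoL_y, rhoL_l₁_apply, Finset.sum_mul, Finset.mul_sum]
  conv_rhs => rw [Finset.sum_comm]
  refine Finset.sum_congr rfl fun k _ => ?_
  rw [Finset.sum_comm]
  refine Finset.sum_congr rfl fun c _ => Finset.sum_congr rfl fun a' _ => ?_
  ring

theorem rhoL_μ (κ : Fin m → Fin P.r₁) (b : Fin P.r₂) : rhoL P R (LRing.μL P R κ b) =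
    ∑ b', ∑ κ' : Fin m → Fin P.r₁, ((G2 P.r₁ P.r₂ R.L)⁻¹).1 b b' * cst P.r₁ P.r₂ R.L (LRing.μL P R κ' b') *
      ∏ i, (G1 P.r₁ P.r₂ R.L).1 (κ' i) (κ i) := by
  have e1 : rhoL P R (LRing.μL P R κ b) = ∑ b'', ∑ κ'' : Fin m → Fin P.r₁,
      (∑ b', ((G2 P.r₁ P.r₂ R.L)⁻¹).1 b b' * cst P.r₁ P.r₂ R.L (R.l₂.1 b' b'')) *
      cst P.r₁ P.r₂ R.L (R.y (P.μ₀ κ'' b'')) *
      ∏ i, ∑ k, cst P.r₁ P.r₂ R.L ((R.l₁⁻¹).1 (κ'' i) k) * (G1 P.r₁ P.r₂ R.L).1 k (κ i) := by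
    simp only [LRing.μL, map_sum, map_mul, map_prod, rhoL_y, rhoL_l₂_apply, rhoL_l₁_inv_apply]
  rw [e1]
  refine (aux (fun b' => ((G2 P.r₁ P.r₂ R.L)⁻¹).1 b b') (fun b' b'' => cst P.r₁ P.r₂ R.L (R.l₂.1 b' b''))
    (fun κ'' b'' => cst P.r₁ P.r₂ R.L (R.y (P.μ₀ κ'' b'')))
    (fun i k => cst P.r₁ P.r₂ R.L ((R.l₁⁻¹).1 i k)) (fun k l => (G1 P.r₁ P.r₂ R.L).1 k l) κ).trans ?_
  simp only [LRing.μL, map_sum, map_mul, map_prod]

/-- the inclusion of the frame ring -/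
noncomputable abbrev inc : LRing.DL P R →+* R.L := (LRing.DL P R).subtype

theorem mem_range (z : R.L) (hz : z ∈ LRing.DL P R) :
    rhoL P R z ∈ (Bmap (r₁ := P.r₁) (r₂ := P.r₂) (inc P R)).range := by
  have hc : ∀ z (hz : z ∈ LRing.DL P R), cst P.r₁ P.r₂ R.L z ∈ (Bmap (r₁ := P.r₁) (r₂ := P.r₂) (inc P R)).range := by
    intro z hz
    exact ⟨cst P.r₁ P.r₂ _ ⟨z, hz⟩, Bmap_cst (inc P R) ⟨z, hz⟩⟩
  have hG1 : ∀ i j, (G1 P.r₁ P.r₂ R.L).1 i j ∈ (Bmap (r₁ := P.r₁) (r₂ := P.r₂) (inc P R)).range := by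
    intro i j
    refine ⟨(G1 P.r₁ P.r₂ _).1 i j, ?_⟩
    rw [map_apply', Bmap_G1]
  have hG1' : ∀ i j, ((G1 P.r₁ P.r₂ R.L)⁻¹).1 i j ∈ (Bmap (r₁ := P.r₁) (r₂ := P.r₂) (inc P R)).range := by
    intro i j
    refine ⟨((G1 P.r₁ P.r₂ _)⁻¹).1 i j, ?_⟩
    rw [map_inv_apply, Bmap_G1]
  have hG2' : ∀ i j, ((G2 P.r₁ P.r₂ R.L)⁻¹).1 i j ∈ (Bmap (r₁ := P.r₁) (r₂ := P.r₂) (inc P R)).range := by
    intro i j
    refine ⟨((G2 P.r₁ P.r₂ _)⁻¹).1 i j, ?_⟩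
    rw [map_inv_apply, Bmap_G2]
  have hQ : ∀ j a, LRing.Q₁L P R j a ∈ LRing.DL P R := fun j a =>
    Subring.subset_closure (Or.inl (Or.inr ⟨(j, a), rfl⟩))
  have hμ : ∀ κ b, LRing.μL P R κ b ∈ LRing.DL P R := fun κ b =>
    Subring.subset_closure (Or.inr ⟨(κ, b), rfl⟩)
  induction hz using Subring.closure_induction with
  | mem z hz =>
    rcases hz with (⟨a, rfl⟩ | ⟨p, rfl⟩) | ⟨p, rfl⟩
    · rw [RingHom.comp_apply, rhoL_γ]
      exact hc _ (Subring.subset_closure (Or.inl (Or.inl ⟨a, rfl⟩)))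
    · change rhoL P R (LRing.Q₁L P R p.1 p.2) ∈ _
      rw [rhoL_Q₁]
      exact Subring.sum_mem _ fun a' _ => Subring.mul_mem _ (hG1' _ _) (hc _ (hQ _ _))
    · change rhoL P R (LRing.μL P R p.1 p.2) ∈ _
      rw [rhoL_μ]
      exact Subring.sum_mem _ fun b' _ => Subring.sum_mem _ fun κ' _ =>
        Subring.mul_mem _ (Subring.mul_mem _ (hG2' _ _) (hc _ (hμ _ _))) (Subring.prod_mem _ fun i _ => hG1 _ _)
  | zero => rw [map_zero]; exact Subring.zero_mem _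
  | one => rw [map_one]; exact Subring.one_mem _
  | add a b ha hb h₁ h₂ => rw [map_add]; exact Subring.add_mem _ h₁ h₂
  | neg a ha h => rw [map_neg]; exact Subring.neg_mem _ h
  | mul a b ha hb h₁ h₂ => rw [map_mul]; exact Subring.mul_mem _ h₁ h₂

theorem inj : Function.Injective (Bmap (r₁ := P.r₁) (r₂ := P.r₂) (inc P R)) :=
  Bmap_injective _ Subtype.val_injective

/-- the universal action on the frame ring -/
theorem exists_rhoD : ∃ ρ : LRing.DL P R →+* B P.r₁ P.r₂ (LRing.DL P R),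
    ∀ z, Bmap (r₁ := P.r₁) (r₂ := P.r₂) (inc P R) (ρ z) = rhoL P R z.1 := by
  choose f hf using fun z : LRing.DL P R => mem_range P R z.1 z.2
  refine ⟨{ toFun := f, map_zero' := ?_, map_one' := ?_, map_add' := ?_, map_mul' := ?_ }, hf⟩
  · apply inj P R
    rw [hf, map_one]
    exact map_one _
  · intro a b
    apply inj P R
    rw [hf, map_mul, hf, hf]
    exact map_mul _ _ _
  · apply inj P R
    rw [hf, map_zero]
    exact map_zero _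
  · intro a b
    apply inj P R
    rw [hf, map_add, hf, hf]
    exact map_add _ _ _

end Main

/-- **F5** -/
theorem stmtGLAct : StmtGLAct.{u} := by
  intro A Γ _ _ G X m K _ x P R
  obtain ⟨ρ, hρ⟩ := exists_rhoD P R
  have mι : ∀ a, R.γ (G.t a) ∈ LRing.DL P R := fun a => Subring.subset_closure (Or.inl (Or.inl ⟨a, rfl⟩))
  have mQ : ∀ j a, LRing.Q₁L P R j a ∈ LRing.DL P R := fun j a =>
    Subring.subset_closure (Or.inl (Or.inr ⟨(j, a), rfl⟩))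
  have mμ : ∀ κ b, LRing.μL P R κ b ∈ LRing.DL P R := fun κ b =>
    Subring.subset_closure (Or.inr ⟨(κ, b), rfl⟩)
  have hι : ∀ a, ρ ⟨R.γ (G.t a), mι a⟩ = cst P.r₁ P.r₂ (LRing.DL P R) ⟨R.γ (G.t a), mι a⟩ := by
    intro a
    apply inj P R
    rw [hρ, Bmap_cst]
    exact rhoL_γ P R (G.t a)
  have hQ : ∀ j a, ρ ⟨LRing.Q₁L P R j a, mQ j a⟩ =
      ∑ a', ((G1 P.r₁ P.r₂ (LRing.DL P R))⁻¹).1 a a' *
        cst P.r₁ P.r₂ (LRing.DL P R) ⟨LRing.Q₁L P R j a', mQ j a'⟩ := by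
    intro j a
    apply inj P R
    rw [hρ, map_sum]
    simp only [map_mul, map_inv_apply, Bmap_G1, Bmap_cst]
    exact rhoL_Q₁ P R j a
  have hμ : ∀ κ b, ρ ⟨LRing.μL P R κ b, mμ κ b⟩ =
      ∑ b', ∑ κ' : Fin m → Fin P.r₁, ((G2 P.r₁ P.r₂ (LRing.DL P R))⁻¹).1 b b' *
        cst P.r₁ P.r₂ (LRing.DL P R) ⟨LRing.μL P R κ' b', mμ κ' b'⟩ *
          ∏ i, (G1 P.r₁ P.r₂ (LRing.DL P R)).1 (κ' i) (κ i) := by
    intro κ b
    apply inj P R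
    rw [hρ, map_sum]
    simp only [map_sum, map_mul, map_prod, map_inv_apply, Bmap_G2, Bmap_cst]
    simp only [map_apply', Bmap_G1]
    exact rhoL_μ P R κ b
  have gι : ∀ {T : Type u} [CommRing T] (g₁ : GL (Fin P.r₁) T) (g₂ : GL (Fin P.r₂) T) (φ : LRing.DL P R →+* T) (a : A),
      ev φ g₁ g₂ (ρ ⟨R.γ (G.t a), mι a⟩) = φ ⟨R.γ (G.t a), mι a⟩ := by
    intro T _ g₁ g₂ φ a
    rw [hι, ev_cst]
  have gQ : ∀ {T : Type u} [CommRing T] (g₁ : GL (Fin P.r₁) T) (g₂ : GL (Fin P.r₂) T) (φ : LRing.DL P R →+* T)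
      (j : Fin X.n) (a : Fin P.r₁), ev φ g₁ g₂ (ρ ⟨LRing.Q₁L P R j a, mQ j a⟩) =
        ∑ a', (g₁⁻¹).1 a a' * φ ⟨LRing.Q₁L P R j a', mQ j a'⟩ := by
    intro T _ g₁ g₂ φ j a
    rw [hQ, map_sum]
    simp only [map_mul, map_inv_apply, ev_G1, ev_cst]
  have gμ : ∀ {T : Type u} [CommRing T] (g₁ : GL (Fin P.r₁) T) (g₂ : GL (Fin P.r₂) T) (φ : LRing.DL P R →+* T)
      (κ : Fin m → Fin P.r₁) (b : Fin P.r₂), ev φ g₁ g₂ (ρ ⟨LRing.μL P R κ b, mμ κ b⟩) =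
        ∑ b', ∑ κ' : Fin m → Fin P.r₁, (g₂⁻¹).1 b b' * φ ⟨LRing.μL P R κ' b', mμ κ' b'⟩ *
          ∏ i, g₁.1 (κ' i) (κ i) := by
    intro T _ g₁ g₂ φ κ b
    rw [hμ, map_sum]
    simp only [map_sum, map_mul, map_prod, map_inv_apply, ev_G2, ev_cst]
    simp only [map_apply', ev_G1]
  exact ⟨{ gact := fun g₁ g₂ φ => (ev (R := LRing.DL P R) (r₁ := P.r₁) (r₂ := P.r₂) φ g₁ g₂).comp ρ
           gact_ι := fun g₁ g₂ φ => RingHom.ext fun a => gι g₁ g₂ φ a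
           gact_Q₁ := fun g₁ g₂ φ j a => gQ g₁ g₂ φ j a
           gact_μ := fun g₁ g₂ φ κ b => gμ g₁ g₂ φ κ b }⟩

end Groth.Agent.ResProp.EF.K655
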